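import Groth.Agent.ArLefLib.Stab

/-! # Fixed ideals at a node -/

namespace Groth.Agent.ArLefLib.Node

open ArLef IsLocalRing

universe u

variable {B : Type u} [CommRing B] [IsDomain B] [IsDiscreteValuationRing B] {π : B}

theorem hmax (hπ : Irreducible π) : maximalIdeal B = Ideal.span {π} := hπ.maximalIdeal_eq

omit [IsDomain B] [IsDiscreteValuationRing B] in
theorem algebraMap_pow (j : ℕ) :
    algebraMap B (NodeAlg B π) (π ^ j) = NodeAlg.t π ^ j * NodeAlg.e π ^ j := by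
  rw [map_pow, ← mul_pow, t_mul_e]

omit [IsDomain B] [IsDiscreteValuationRing B] in
theorem map_pi_eq {F : Type*} [FunLike F (NodeAlg B π) (NodeAlg B π)] [RingHomClass F (NodeAlg B π) (NodeAlg B π)]
    (σ : F) : σ (algebraMap B (NodeAlg B π) π) = σ (NodeAlg.t π) * σ (NodeAlg.e π) := by
  rw [← map_mul, t_mul_e]

variable (hπ : Irreducible π) {j : ℕ} {γ : B}

omit [IsDomain B] [IsDiscreteValuationRing B] in
theorem pow_mem_fixIdeal (hγ : IsUnit γ) (σ : NodeAlg B π ≃+* NodeAlg B π)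
    (hσπ : σ (algebraMap B (NodeAlg B π) π) = algebraMap B (NodeAlg B π) (π + γ * π ^ j)) :
    algebraMap B (NodeAlg B π) (π ^ j) ∈ fixIdeal σ := by
  have h := sub_mem_fixIdeal σ (algebraMap B (NodeAlg B π) π)
  rw [hσπ, ← map_sub, add_sub_cancel_left, map_mul] at h
  exact ((Ideal.unit_mul_mem_iff_mem _ (hγ.map (algebraMap B (NodeAlg B π)))).1 h)

omit [IsDomain B] [IsDiscreteValuationRing B] in
theorem alpha_mul_beta' [IsDomain (NodeAlg B π)] (hne : algebraMap B (NodeAlg B π) π ≠ 0) (hj : 1 ≤ j)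
    (σ : NodeAlg B π ≃+* NodeAlg B π)
    (hσπ : σ (algebraMap B (NodeAlg B π) π) = algebraMap B (NodeAlg B π) (π + γ * π ^ j))
    {α β : NodeAlg B π}
    (h : σ (NodeAlg.t π) * σ (NodeAlg.e π) = α * β * algebraMap B (NodeAlg B π) π) :
    α * β - 1 = algebraMap B (NodeAlg B π) γ * (NodeAlg.t π ^ (j - 1) * NodeAlg.e π ^ (j - 1)) := by
  apply mul_left_cancel₀ hne
  rw [← map_pi_eq, hσπ, map_add, map_mul] at h
  rw [← algebraMap_pow, show algebraMap B (NodeAlg B π) π * (algebraMap B _ γ * algebraMap B _ (π ^ (j - 1))) =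
    algebraMap B (NodeAlg B π) γ * algebraMap B _ (π ^ j) by
      rw [mul_left_comm, ← map_mul (algebraMap B (NodeAlg B π)) π, ← pow_succ']; congr 3; omega]
  linear_combination -h

include hπ in
theorem pi_ne_zero : algebraMap B (NodeAlg B π) π ≠ 0 := by
  haveI := isDomain (hmax hπ) hπ.ne_zero
  rw [← t_mul_e]
  exact mul_ne_zero (t_ne_zero (hmax hπ)) (e_ne_zero (hmax hπ))

include hπ in
theorem fixIdeal_stab_eq (hj : 1 ≤ j) (hγ : IsUnit γ) (σ : NodeAlg B π ≃+* NodeAlg B π)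
    (hσB : ∀ c : B, σ (algebraMap B (NodeAlg B π) c) - algebraMap B (NodeAlg B π) c ∈
      Ideal.span ({algebraMap B (NodeAlg B π) (π ^ j)} : Set (NodeAlg B π)))
    (hσπ : σ (algebraMap B (NodeAlg B π) π) = algebraMap B (NodeAlg B π) (π + γ * π ^ j))
    {α β : NodeAlg B π} (ht : σ (NodeAlg.t π) = α * NodeAlg.t π) (he : σ (NodeAlg.e π) = β * NodeAlg.e π) :
    fixIdeal σ = Ideal.span {NodeAlg.t π ^ j * NodeAlg.e π ^ j, (α - 1) * NodeAlg.t π, (β - 1) * NodeAlg.e π} := by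
  refine le_antisymm (node_fixIdeal_le (hmax hπ) σ.toRingHom (fun b => ?_) ?_ ?_) (Ideal.span_le.2 ?_)
  · exact Ideal.span_mono (by simp [algebraMap_pow]) (hσB b)
  · refine Ideal.subset_span (Or.inr (Or.inl ?_))
    change σ (NodeAlg.t π) - NodeAlg.t π = _
    rw [ht]; ring
  · refine Ideal.subset_span (Or.inr (Or.inr ?_))
    change σ (NodeAlg.e π) - NodeAlg.e π = _
    rw [he]; ring
  · refine Set.insert_subset ?_ (Set.pair_subset ?_ ?_)
    · rw [← algebraMap_pow]; exact pow_mem_fixIdeal hγ σ hσπ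
    · rw [show (α - 1) * NodeAlg.t π = σ (NodeAlg.t π) - NodeAlg.t π by rw [ht]; ring]
      exact sub_mem_fixIdeal σ _
    · rw [show (β - 1) * NodeAlg.e π = σ (NodeAlg.e π) - NodeAlg.e π by rw [he]; ring]
      exact sub_mem_fixIdeal σ _

end Groth.Agent.ArLefLib.Node
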