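import Mathlib.RingTheory.Length
import Mathlib.RingTheory.Ideal.Colon
import Mathlib.RingTheory.Ideal.Maximal
import Mathlib.RingTheory.SimpleModule.Basic
import Mathlib.LinearAlgebra.Quotient.Basic
import Mathlib.RingTheory.Ideal.Quotient.Operations
import Mathlib.Data.ENat.Basic
import Mathlib.Tactic.Ring
import Mathlib.Tactic.LinearCombination

/-! # Lengths of quotient rings -/

namespace Groth.Agent.ArLefLib

variable {A : Type*} [CommRing A]

/-- `A/I` is filtered by `A/(I : a)` and `A/(I + (a))`. -/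
theorem length_quot_eq_add {I J K : Ideal A} (a : A) (hJ : J = I ⊔ Ideal.span {a})
    (hK : ∀ x, x ∈ K ↔ x * a ∈ I) :
    Module.length A (A ⧸ I) = Module.length A (A ⧸ K) + Module.length A (A ⧸ J) := by
  subst hJ
  have hk : K ≤ LinearMap.ker (I.mkQ ∘ₗ LinearMap.toSpanSingleton A A a) := fun x hx =>
    (Submodule.Quotient.mk_eq_zero _).2 ((hK x).1 hx)
  let f : (A ⧸ K) →ₗ[A] (A ⧸ I) := K.liftQ (I.mkQ ∘ₗ LinearMap.toSpanSingleton A A a) hk
  have hf : Function.Injective f := by
    rw [← LinearMap.ker_eq_bot, eq_bot_iff]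
    rintro x hx
    obtain ⟨y, rfl⟩ := Submodule.mkQ_surjective K x
    exact (Submodule.Quotient.mk_eq_zero _).2 ((hK y).2 ((Submodule.Quotient.mk_eq_zero _).1 hx))
  refine Module.length_eq_add_of_exact f (Submodule.factor le_sup_left) hf
    (Submodule.factor_surjective _) fun x => ?_
  obtain ⟨x, rfl⟩ := Submodule.mkQ_surjective I x
  change Submodule.Quotient.mk (p := I ⊔ Ideal.span {a}) x = 0 ↔ Submodule.Quotient.mk x ∈ Set.range f
  rw [Submodule.Quotient.mk_eq_zero]
  constructor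
  · intro hx
    obtain ⟨i, hi, y, hy, rfl⟩ := Submodule.mem_sup.1 hx
    obtain ⟨c, rfl⟩ := Ideal.mem_span_singleton'.1 hy
    refine ⟨K.mkQ c, ?_⟩
    refine (Submodule.Quotient.eq _).2 ?_
    change c * a - (i + c * a) ∈ I
    rw [show c * a - (i + c * a) = -i by ring]
    exact neg_mem hi
  · rintro ⟨y, hy⟩
    obtain ⟨c, rfl⟩ := Submodule.mkQ_surjective K y
    have : c * a - x ∈ I := (Submodule.Quotient.eq _).1 hy
    rw [show x = -(c * a - x) + c * a by ring]
    exact Submodule.mem_sup.2 ⟨_, neg_mem this, c * a, Ideal.mem_span_singleton'.2 ⟨c, rfl⟩, rfl⟩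

theorem length_quot_top : Module.length A (A ⧸ (⊤ : Ideal A)) = 0 :=
  Module.length_eq_zero_iff.2 inferInstance

theorem length_quot_maximal (m : Ideal A) [hm : m.IsMaximal] : Module.length A (A ⧸ m) = 1 :=
  haveI : IsSimpleModule A (A ⧸ m) := isSimpleModule_iff_isCoatom.2 hm.out
  Module.length_eq_one _ _

theorem length_quot_pow {J : Ideal A} {x : A} (hx : ∀ y, x * y ∈ J → y ∈ J) :
    ∀ n : ℕ, Module.length A (A ⧸ (J ⊔ Ideal.span {x ^ n})) =
      n * Module.length A (A ⧸ (J ⊔ Ideal.span {x})) := by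
  intro n
  induction n with
  | zero =>
    rw [pow_zero, Ideal.span_singleton_one, sup_top_eq, length_quot_top, Nat.cast_zero, zero_mul]
  | succ n ih =>
    rw [length_quot_eq_add (J := J ⊔ Ideal.span {x}) (K := J ⊔ Ideal.span {x ^ n}) x ?_ ?_, ih,
      Nat.cast_add, Nat.cast_one, add_one_mul]
    · rw [sup_assoc, ← Ideal.span_union, Set.singleton_union, Set.pair_comm]
      congr 1
      refine le_antisymm (Ideal.span_mono (by simp)) (Ideal.span_le.2 ?_)
      rintro y (rfl | rfl)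
      · exact Ideal.subset_span rfl
      · exact Ideal.mem_span_singleton.2 (Dvd.intro_left _ (pow_succ x n).symm)
    · intro y
      simp only [Submodule.mem_sup, Ideal.mem_span_singleton']
      constructor
      · rintro ⟨j, hj, _, ⟨c, rfl⟩, rfl⟩
        exact ⟨j * x, J.mul_mem_right _ hj, _, ⟨c, rfl⟩, by ring⟩
      · rintro ⟨j, hj, _, ⟨c, rfl⟩, h⟩
        refine ⟨y - c * x ^ n, hx _ ?_, _, ⟨c, rfl⟩, sub_add_cancel _ _⟩
        rw [show x * (y - c * x ^ n) = j by linear_combination -h]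
        exact hj

theorem length_quot_of_surjective {C : Type*} [CommRing C] (f : A →+* C) (hf : Function.Surjective f)
    (I : Ideal A) (J : Ideal C) (h : ∀ x, x ∈ I ↔ f x ∈ J) :
    Module.length A (A ⧸ I) = Module.length C (C ⧸ J) := by
  letI := f.toAlgebra
  have hk : I ≤ LinearMap.ker ((J.mkQ.restrictScalars A) ∘ₗ Algebra.linearMap A C) := fun x hx =>
    (Submodule.Quotient.mk_eq_zero _).2 ((h x).1 hx)
  let g : (A ⧸ I) →ₗ[A] (C ⧸ J) := I.liftQ _ hk
  have hg : Function.Bijective g := by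
    refine ⟨?_, fun y => ?_⟩
    · rw [← LinearMap.ker_eq_bot, eq_bot_iff]
      rintro x hx
      obtain ⟨y, rfl⟩ := Submodule.mkQ_surjective I x
      exact (Submodule.Quotient.mk_eq_zero _).2 ((h y).2 ((Submodule.Quotient.mk_eq_zero _).1 hx))
    · obtain ⟨c, rfl⟩ := Submodule.mkQ_surjective J y
      obtain ⟨a, rfl⟩ := hf c
      exact ⟨I.mkQ a, rfl⟩
  rw [(LinearEquiv.ofBijective g hg).length_eq, Module.length_eq_of_surjective (R := C) (M := C ⧸ J) hf]

end Groth.Agent.ArLefLib
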