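import Groth.Agent.ArLefLib.Node
import Groth.Agent.ArLefLib.Length
import Mathlib.RingTheory.Nakayama
import Mathlib.RingTheory.Jacobson.Ideal

/-! # Fixed-point ideals of automorphisms of local rings -/

namespace Groth.Agent.ArLefLib

open ArLef IsLocalRing

universe u

theorem sub_mem_fixIdeal {A : Type u} [CommRing A] (σ : A → A) (r : A) : σ r - r ∈ fixIdeal σ :=
  Ideal.subset_span ⟨r, rfl⟩

/-- An upper bound for the fixed ideal from topological generators. -/
theorem fixIdeal_le {A : Type u} [CommRing A] [IsNoetherianRing A] [IsLocalRing A] (σ : A →+* A)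
    {J : Ideal A} {S T : Set A} (hT : T ⊆ maximalIdeal A)
    (hS : ∀ r, ∃ b ∈ S, r - b ∈ Ideal.span T)
    (hbS : ∀ b ∈ S, σ b - b ∈ J) (hbT : ∀ b ∈ T, σ b - b ∈ J) : fixIdeal σ ≤ J := by
  set E := fixIdeal (σ : A → A)
  have hE : ∀ r, σ r - r ∈ E := sub_mem_fixIdeal σ
  refine Submodule.le_of_le_smul_of_le_jacobson_bot (I := maximalIdeal A)
    (IsNoetherian.noetherian E) (maximalIdeal_le_jacobson _) ?_
  have key : ∀ x ∈ Ideal.span T, σ x - x ∈ J ⊔ maximalIdeal A • E := by
    intro x hx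
    induction hx using Submodule.span_induction with
    | mem y hy => exact Submodule.mem_sup_left (hbT y hy)
    | zero => simp
    | add y z _ _ hy hz =>
      rw [map_add, show σ y + σ z - (y + z) = (σ y - y) + (σ z - z) by ring]
      exact add_mem hy hz
    | smul c y hy0 hy =>
      rw [smul_eq_mul c y, map_mul, show σ c * σ y - c * y = y * (σ c - c) + σ c * (σ y - y) by ring]
      exact add_mem (Submodule.mem_sup_right (Submodule.smul_mem_smul (Ideal.span_le.2 hT hy0) (hE c)))
        (Ideal.mul_mem_left _ _ hy)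
  refine Ideal.span_le.2 ?_
  rintro _ ⟨r, rfl⟩
  obtain ⟨b, hb, hrb⟩ := hS r
  change σ r - r ∈ J ⊔ maximalIdeal A • E
  rw [show σ r - r = (σ b - b) + (σ (r - b) - (r - b)) by rw [map_sub]; ring]
  exact add_mem (Submodule.mem_sup_left (hbS b hb)) (key _ hrb)

variable {B : Type u} [CommRing B] [IsLocalRing B] [IsNoetherianRing B] {π : B}
  (hπ : maximalIdeal B = Ideal.span {π})

theorem node_noetherian : IsNoetherianRing (NodeAlg B π) :=
  isNoetherianRing_of_surjective _ _ (Ideal.Quotient.mk _) Ideal.Quotient.mk_surjective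

include hπ in
omit [IsNoetherianRing B] in
theorem node_decomp [IsLocalRing (NodeAlg B π)] (r : NodeAlg B π) :
    ∃ b ∈ Set.range (algebraMap B (NodeAlg B π)), r - b ∈ Ideal.span {NodeAlg.t π, NodeAlg.e π} := by
  obtain ⟨b, hb⟩ := IsLocalRing.residue_surjective (PowerSeries.constantCoeff (Node.branch hπ 0 r))
  refine ⟨_, ⟨b, rfl⟩, ?_⟩
  rw [← Node.maximalIdeal_eq hπ, mem_maximalIdeal, mem_nonunits_iff, Node.isUnit_iff hπ 0, not_not,
    map_sub, Node.branch_algebraMap, map_sub, PowerSeries.constantCoeff_C, hb, sub_self]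

include hπ in
theorem node_fixIdeal_le (σ : NodeAlg B π →+* NodeAlg B π) {J : Ideal (NodeAlg B π)}
    (hB : ∀ b, σ (algebraMap B (NodeAlg B π) b) - algebraMap B (NodeAlg B π) b ∈ J)
    (ht : σ (NodeAlg.t π) - NodeAlg.t π ∈ J) (he : σ (NodeAlg.e π) - NodeAlg.e π ∈ J) :
    fixIdeal σ ≤ J := by
  haveI := Node.isLocalRing hπ
  haveI := node_noetherian (π := π)
  refine fixIdeal_le σ (S := Set.range (algebraMap B (NodeAlg B π)))
    (T := {NodeAlg.t π, NodeAlg.e π}) ?_ (node_decomp hπ) ?_ ?_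
  · rw [Node.maximalIdeal_eq hπ]; exact Ideal.subset_span
  · rintro _ ⟨b, rfl⟩; exact hB b
  · rintro _ (rfl | rfl) <;> assumption

theorem powerSeries_fixIdeal_le (σ : PowerSeries B →+* PowerSeries B) {J : Ideal (PowerSeries B)}
    (hB : ∀ b, σ (algebraMap B (PowerSeries B) b) - algebraMap B (PowerSeries B) b ∈ J)
    (hX : σ PowerSeries.X - PowerSeries.X ∈ J) : fixIdeal σ ≤ J := by
  refine fixIdeal_le σ (S := Set.range (algebraMap B (PowerSeries B))) (T := {PowerSeries.X}) ?_
    (fun r => ⟨_, ⟨PowerSeries.constantCoeff r, rfl⟩, ?_⟩) ?_ ?_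
  · rintro _ rfl
    rw [SetLike.mem_coe, mem_maximalIdeal, mem_nonunits_iff, PowerSeries.isUnit_iff_constantCoeff,
      PowerSeries.constantCoeff_X]
    exact not_isUnit_zero
  · rw [Ideal.mem_span_singleton, PowerSeries.X_dvd_iff, map_sub,
      show algebraMap B (PowerSeries B) = PowerSeries.C from RingHom.ext fun _ => PowerSeries.C_eq_algebraMap.symm,
      PowerSeries.constantCoeff_C, sub_self]
  · rintro _ ⟨b, rfl⟩; exact hB b
  · rintro _ rfl; exact hX

end Groth.Agent.ArLefLib
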