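import Groth.Prelude.Def_W4c2arithlefschetzGraph
import Mathlib.Algebra.Order.BigOperators.Ring.Finset
import Mathlib.LinearAlgebra.Matrix.NonsingularInverse
import Mathlib.LinearAlgebra.Matrix.ToLinearEquiv
import Mathlib.Data.Matrix.Mul
import Mathlib.LinearAlgebra.Matrix.DotProduct
import Mathlib.Tactic.Ring
import Mathlib.Tactic.Linarith
import Mathlib.Data.Rat.Lemmas
import Mathlib.Algebra.Order.Ring.Rat
import Mathlib.Algebra.BigOperators.Fin

/-! # The proximity matrix of blow-up data -/

namespace Groth.Agent.ArLefLib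

open ArLef ArLef.BlowupGraph Matrix

variable {n : ℕ} (G : BlowupGraph n)

/-- `A p m = 1` if `p ∈ par m`. -/
def prox : Matrix (Fin n) (Fin n) ℚ := fun p m => if p ∈ G.par m then 1 else 0

/-- The matrix of total transforms. -/
def tot : Matrix (Fin n) (Fin n) ℚ := fun k m => (G.tt k m : ℚ)

theorem tt_rec (k m : Fin n) :
    G.tt k m = (if k = m then 1 else 0) + ∑ p ∈ G.par m, G.tt k p := by
  classical
  unfold BlowupGraph.tt
  rw [BlowupGraph.ttN]
  have hsum : ∑ p ∈ (G.parN m.1).attach, G.ttN k p.1 = ∑ p ∈ G.par m, G.ttN k p.1 := by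
    rw [Finset.sum_attach (G.parN m.1) (fun p => G.ttN k p), BlowupGraph.parN, dif_pos m.2, Finset.sum_map]
    rfl
  have hlt : ∀ p ∈ G.par m, m.1 ≤ k.1 → G.ttN k p.1 = 0 := fun p hp hmk => by
    rw [BlowupGraph.ttN, if_pos]
    exact lt_of_lt_of_le (G.par_lt m p hp) hmk
  rcases lt_trichotomy m.1 k.1 with h | h | h
  · rw [if_pos h, if_neg (fun e => by rw [e] at h; exact lt_irrefl _ h),
      Finset.sum_eq_zero (fun p hp => hlt p hp h.le), add_zero]
  · rw [if_neg (by omega), if_pos h, if_pos (Fin.ext h.symm),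
      Finset.sum_eq_zero (fun p hp => hlt p hp h.le), add_zero]
  · rw [if_neg (by omega), if_neg (by omega), if_neg (fun e => by rw [e] at h; exact lt_irrefl _ h),
      zero_add, hsum]

theorem tot_mul : tot G * (1 - prox G) = 1 := by
  classical
  ext k m
  rw [Matrix.mul_sub, Matrix.mul_one, Matrix.sub_apply, Matrix.mul_apply, sub_eq_iff_eq_add]
  simp only [tot, prox, mul_ite, mul_one, mul_zero, Finset.sum_ite_mem, Finset.univ_inter,
    Matrix.one_apply]
  rw [tt_rec]
  push_cast
  rfl

theorem mul_tot : (1 - prox G) * tot G = 1 := mul_eq_one_comm.1 (tot_mul G)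

theorem mat_eq : G.mat = -((1 - prox G) * (1 - prox G)ᵀ) := by
  classical
  ext p q
  have hpp : ∀ x : Fin n, x ∉ G.par x := fun x h => lt_irrefl _ (G.par_lt x x h)
  have key : (((1 - prox G) * (1 - prox G)ᵀ : Matrix (Fin n) (Fin n) ℚ)) p q = (if p = q then 1 else 0)
      - (if p ∈ G.par q then (1 : ℚ) else 0) - (if q ∈ G.par p then 1 else 0)
      + ((Finset.univ.filter fun m => p ∈ G.par m ∧ q ∈ G.par m).card : ℚ) := by
    have hexp : ∀ a b c d : ℚ, (a - b) * (c - d) = a * c - b * c - a * d + b * d := fun a b c d => by ring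
    rw [Matrix.mul_apply]
    simp only [Matrix.sub_apply, Matrix.transpose_apply, Matrix.one_apply, prox, hexp,
      Finset.sum_add_distrib, Finset.sum_sub_distrib, ite_mul, one_mul, zero_mul, mul_ite, mul_one, mul_zero,
      Finset.sum_ite_eq, Finset.mem_univ, if_true, ← ite_and, Finset.sum_boole]
    have hc : ∀ (a : Fin n) (P : Fin n → Prop) [DecidablePred P],
        ((Finset.univ.filter fun x => a = x ∧ P x).card : ℚ) = if P a then 1 else 0 := fun a P _ => by
      rw [← Finset.filter_filter, Finset.filter_eq, if_pos (Finset.mem_univ a), Finset.filter_singleton]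
      split <;> simp
    simp only [and_comm (a := q ∈ G.par _)]
    rw [hc q (fun x => p = x), hc q (fun x => p ∈ G.par x), hc p (fun x => q ∈ G.par x)]
  rw [Matrix.neg_apply, key]
  simp only [BlowupGraph.mat]
  by_cases hpq : p = q
  · subst hpq
    simp only [hpp, if_false, if_true, and_self, BlowupGraph.selfInt]
    push_cast
    ring
  rw [if_neg hpq, if_neg hpq]
  -- reduce to `p < q`
  have main : ∀ {p q : Fin n}, p < q → (if G.Adj p q then (1 : ℚ) else 0) =
      (if p ∈ G.par q then (1 : ℚ) else 0) + (if q ∈ G.par p then 1 else 0)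
      - ((Finset.univ.filter fun m => p ∈ G.par m ∧ q ∈ G.par m).card : ℚ) := by
    intro p q hlt
    have hq : q ∉ G.par p := fun h => lt_asymm hlt (G.par_lt p q h)
    have heq : ∀ m, p ∈ G.par m → q ∈ G.par m → G.par m = {p, q} := fun m hp hq' =>
      (Finset.eq_of_subset_of_card_le (Finset.insert_subset hp (Finset.singleton_subset_iff.2 hq'))
        (by rw [Finset.card_pair hlt.ne]; exact G.card_le_two m)).symm
    have hAdj : G.Adj p q ↔ (p ∈ G.par q ∧ ∀ m, q < m → G.par m ≠ {p, q}) :=
      ⟨fun h => h.resolve_right (fun h' => hq h'.1), Or.inl⟩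
    rw [if_neg hq, add_zero]
    rcases Finset.eq_empty_or_nonempty (Finset.univ.filter fun m => p ∈ G.par m ∧ q ∈ G.par m) with he | ⟨m, hm⟩
    · rw [he, Finset.card_empty, Nat.cast_zero, sub_zero]
      refine if_congr (hAdj.trans ⟨And.left, fun h => ⟨h, fun m _ hm => ?_⟩⟩) rfl rfl
      have : m ∈ (∅ : Finset (Fin n)) := by
        rw [← he, Finset.mem_filter, hm]
        simp
      simp at this
    · obtain ⟨hmp, hmq⟩ := (Finset.mem_filter.1 hm).2
      obtain ⟨hp1, hfirst⟩ := G.meet_of_two m p q hmp hmq hlt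
      have hcard : (Finset.univ.filter fun m => p ∈ G.par m ∧ q ∈ G.par m) = {m} := by
        ext m'
        refine ⟨fun h' => ?_, fun h' => Finset.mem_singleton.1 h' ▸ hm⟩
        obtain ⟨h1, h2⟩ := (Finset.mem_filter.1 h').2
        rcases lt_trichotomy m' m with h | h | h
        · exact absurd (heq m' h1 h2) (hfirst m' (G.par_lt m' q h2) h)
        · exact Finset.mem_singleton.2 h
        · exact absurd (heq m hmp hmq) ((G.meet_of_two m' p q h1 h2 hlt).2 m (G.par_lt m q hmq) h)
      rw [hcard, Finset.card_singleton, Nat.cast_one, if_pos hp1, sub_self,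
        if_neg (fun h => (hAdj.1 h).2 m (G.par_lt m q hmq) (heq m hmp hmq))]
  rcases lt_or_gt_of_ne hpq with h | h
  · rw [main h]; ring
  · rw [show (if G.Adj p q then (1 : ℚ) else 0) = if G.Adj q p then 1 else 0 from
      if_congr (Or.comm) rfl rfl, main h]
    simp only [and_comm (a := q ∈ G.par _) (b := p ∈ G.par _)]
    ring

theorem mult_eq (i j : Fin n) : (G.mult i j : ℚ) = ((tot G)ᵀ * tot G) i j := by
  rw [Matrix.mul_apply]
  simp [BlowupGraph.mult, tot]

theorem mat_mul_mult : G.mat * ((tot G)ᵀ * tot G) = -1 := by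
  rw [mat_eq, Matrix.neg_mul, Matrix.mul_assoc, ← Matrix.mul_assoc (1 - prox G)ᵀ,
    ← Matrix.transpose_mul, tot_mul, Matrix.transpose_one, Matrix.one_mul, mul_tot]

theorem eq_zero_of_mat_mulVec (x : Fin n → ℚ) (h : x ⬝ᵥ (G.mat *ᵥ x) = 0) : x = 0 := by
  rw [mat_eq, Matrix.neg_mulVec, dotProduct_neg, neg_eq_zero, ← Matrix.mulVec_mulVec,
    Matrix.dotProduct_mulVec, ← Matrix.mulVec_transpose, dotProduct_self_eq_zero] at h
  have : x = ((1 - prox G) * tot G)ᵀ *ᵥ x := by rw [mul_tot, Matrix.transpose_one, Matrix.one_mulVec]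
  rw [this, Matrix.transpose_mul, ← Matrix.mulVec_mulVec, h, Matrix.mulVec_zero]

theorem isUnit_det_sub (I : Finset (Fin n)) :
    IsUnit (G.mat.submatrix (fun x : I => x.1) (fun x : I => x.1)).det := by
  classical
  refine isUnit_iff_ne_zero.2 fun h => ?_
  obtain ⟨v, hv0, hv⟩ := Matrix.exists_mulVec_eq_zero_iff.2 h
  let x : Fin n → ℚ := fun i => if hi : i ∈ I then v ⟨i, hi⟩ else 0
  have hx : x = 0 := by
    apply eq_zero_of_mat_mulVec G
    refine Finset.sum_eq_zero fun i _ => ?_
    by_cases hi : i ∈ I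
    · have e : (G.mat *ᵥ x) i = (G.mat.submatrix (fun x : I => x.1) (fun x : I => x.1) *ᵥ v) ⟨i, hi⟩ := by
        simp only [Matrix.mulVec, dotProduct, Matrix.submatrix_apply]
        rw [← Finset.sum_subset (Finset.subset_univ I) (fun j _ hj => by simp [x, hj]),
          ← Finset.sum_coe_sort I]
        exact Finset.sum_congr rfl fun j _ => by simp [x]
      rw [e, hv]
      simp
    · simp [x, hi]
  refine hv0 (funext fun i => ?_)
  have := congrFun hx i.1
  simpa [x] using this

theorem pairing_mul_mult (I : Finset (Fin n)) (i' j : Fin n) (hi' : i' ∉ I) (hj : j ∉ I) :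
    ∑ i ∈ Finset.univ.filter (fun i => i ∉ I), G.pairing I i' i * ((tot G)ᵀ * tot G) i j
      = -(if i' = j then 1 else 0) := by
  classical
  set N := (tot G)ᵀ * tot G with hN
  set D := G.mat.submatrix (fun x : I => x.1) (fun x : I => x.1) with hD
  have hMN : ∀ x y, ∑ z, G.mat x z * N z y = -(if x = y then 1 else 0) := fun x y => by
    rw [← Matrix.mul_apply, hN, mat_mul_mult, Matrix.neg_apply, Matrix.one_apply]
  have hsplit : ∀ f : Fin n → ℚ, ∑ z, f z =
      (∑ c : I, f c.1) + ∑ i ∈ Finset.univ.filter (fun i => i ∉ I), f i := fun f => by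
    rw [← Finset.sum_filter_add_sum_filter_not Finset.univ (· ∈ I) f, Finset.filter_univ_mem,
      Finset.sum_coe_sort I f]
  have hrow : ∀ b : I, ∑ i ∈ Finset.univ.filter (fun i => i ∉ I), G.mat b.1 i * N i j
      = -(D *ᵥ fun c : I => N c.1 j) b := fun b => by
    have := hMN b.1 j
    rw [if_neg (fun e => hj (by rw [← e]; exact b.2)), neg_zero, hsplit] at this
    simp only [Matrix.mulVec, dotProduct, hD, Matrix.submatrix_apply]
    linarith
  have hinv : ∀ a : I, ∑ b : I, D⁻¹ a b * (D *ᵥ fun c : I => N c.1 j) b = N a.1 j := fun a => by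
    have : D⁻¹ *ᵥ (D *ᵥ fun c : I => N c.1 j) = fun c : I => N c.1 j := by
      rw [Matrix.mulVec_mulVec, Matrix.nonsing_inv_mul _ (isUnit_det_sub G I), Matrix.one_mulVec]
    exact congrFun this a
  simp only [BlowupGraph.pairing, sub_mul, Finset.sum_sub_distrib, Finset.sum_mul]
  rw [← hMN i' j, hsplit (fun z => G.mat i' z * N z j), Finset.sum_comm]
  have : ∀ a : I, ∑ i ∈ Finset.univ.filter (fun i => i ∉ I), ∑ b : I, G.mat i' a.1 * D⁻¹ a b * G.mat b.1 i * N i j
      = -(G.mat i' a.1 * N a.1 j) := fun a => by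
    rw [Finset.sum_comm, ← hinv a, Finset.mul_sum, ← Finset.sum_neg_distrib]
    refine Finset.sum_congr rfl fun b _ => ?_
    simp only [mul_assoc, ← Finset.mul_sum, hrow b]
    ring
  rw [Finset.sum_congr rfl (fun a _ => this a), Finset.sum_neg_distrib]
  ring

end Groth.Agent.ArLefLib
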