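import Groth.Prelude.Def_W4c2arithlefschetzNode
import Mathlib.RingTheory.MvPowerSeries.Inverse
import Mathlib.RingTheory.MvPowerSeries.Equiv
import Mathlib.RingTheory.PowerSeries.Inverse
import Mathlib.RingTheory.PowerSeries.Ideal
import Mathlib.RingTheory.DiscreteValuationRing.Basic
import Mathlib.RingTheory.Filtration
import Mathlib.RingTheory.Length
import Mathlib.RingTheory.LocalRing.ResidueField.Basic
import Mathlib.Data.Finsupp.Antidiagonal
import Mathlib.Tactic.Ring
import Mathlib.Tactic.LinearCombination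
import Mathlib.Tactic.FinCases

/-! # The formal double point -/

namespace Groth.Agent.ArLefLib.Node

open ArLef IsLocalRing Finsupp

universe u

variable {B : Type u} [CommRing B] [IsLocalRing B]

/-- Restriction of a power series to the `j`-th axis of the special fibre. -/
noncomputable def axisHom (j : Fin 2) :
    MvPowerSeries (Fin 2) B →+* PowerSeries (ResidueField B) where
  toFun f := PowerSeries.mk fun n => residue B (MvPowerSeries.coeff (single j n) f)
  map_one' := by
    ext n
    simp only [PowerSeries.coeff_mk, PowerSeries.coeff_one, MvPowerSeries.coeff_one,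
      Finsupp.single_eq_zero]
    split <;> simp
  map_mul' f g := by
    classical
    ext n
    simp only [PowerSeries.coeff_mk, MvPowerSeries.coeff_mul, PowerSeries.coeff_mul,
      Finsupp.antidiagonal_single, Finset.sum_map, map_sum, map_mul]
    rfl
  map_zero' := by ext n; simp
  map_add' f g := by ext n; simp

@[simp] theorem coeff_axisHom (j : Fin 2) (f : MvPowerSeries (Fin 2) B) (n : ℕ) :
    PowerSeries.coeff n (axisHom j f) = residue B (MvPowerSeries.coeff (single j n) f) := by
  change PowerSeries.coeff n (PowerSeries.mk fun n => residue B (MvPowerSeries.coeff (single j n) f)) = _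
  rw [PowerSeries.coeff_mk]

theorem axisHom_C (j : Fin 2) (b : B) :
    axisHom j (MvPowerSeries.C b) = PowerSeries.C (residue B b) := by
  classical
  ext n
  rw [coeff_axisHom, MvPowerSeries.coeff_C, PowerSeries.coeff_C]
  simp only [Finsupp.single_eq_zero]
  split <;> simp

theorem axisHom_X_self (j : Fin 2) : axisHom (B := B) j (MvPowerSeries.X j) = PowerSeries.X := by
  classical
  ext n
  rw [coeff_axisHom, MvPowerSeries.coeff_X, PowerSeries.coeff_X]
  simp only [(Finsupp.single_injective j).eq_iff]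
  split <;> simp

theorem axisHom_X_other {i j : Fin 2} (h : i ≠ j) :
    axisHom (B := B) j (MvPowerSeries.X i) = 0 := by
  classical
  ext n
  rw [coeff_axisHom, MvPowerSeries.coeff_X, if_neg, map_zero, map_zero]
  intro e
  have h1 := DFunLike.congr_fun e i
  rw [Finsupp.single_eq_same, Finsupp.single_eq_of_ne h] at h1
  exact absurd h1 zero_ne_one

variable {π : B} (hπ : maximalIdeal B = Ideal.span {π})

omit [IsLocalRing B] in
/-- The relation `t * e = π`. -/
theorem t_mul_e : NodeAlg.t π * NodeAlg.e π = algebraMap B (NodeAlg B π) π := by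
  rw [← map_mul]
  exact Ideal.Quotient.eq.2 (Ideal.subset_span rfl)

omit [IsLocalRing B] in
theorem algebraMap_eq (b : B) :
    algebraMap B (NodeAlg B π) b = Ideal.Quotient.mk _ (MvPowerSeries.C b) := rfl

include hπ in
theorem residue_eq_zero : residue B π = 0 := by
  rw [residue_eq_zero_iff, hπ]; exact Ideal.subset_span rfl

/-- The restriction of the double point to one of its two branches. -/
noncomputable def branch (j : Fin 2) : NodeAlg B π →+* PowerSeries (ResidueField B) :=
  Ideal.Quotient.lift _ (axisHom j) fun x hx => by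
    obtain ⟨c, rfl⟩ := Ideal.mem_span_singleton'.1 hx
    rw [map_mul, map_sub, map_mul, axisHom_C, residue_eq_zero hπ, map_zero, sub_zero]
    fin_cases j <;> simp [axisHom_X_other]

theorem branch_mk (j : Fin 2) (f : MvPowerSeries (Fin 2) B) :
    branch hπ j (Ideal.Quotient.mk _ f) = axisHom j f := rfl

theorem branch_surjective (j : Fin 2) : Function.Surjective (branch hπ j) := by
  classical
  intro g
  choose l hl using fun n => IsLocalRing.residue_surjective (PowerSeries.coeff n g)
  refine ⟨Ideal.Quotient.mk _ (show MvPowerSeries (Fin 2) B from fun m => if m = single j (m j) then l (m j) else 0), ?_⟩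
  rw [branch_mk]
  ext n
  rw [coeff_axisHom, MvPowerSeries.coeff_apply]
  simp [Finsupp.single_eq_same, hl]

@[simp] theorem branch_t_one : branch hπ 1 (NodeAlg.t π) = 0 := axisHom_X_other (by decide)
@[simp] theorem branch_e_one : branch hπ 1 (NodeAlg.e π) = PowerSeries.X := axisHom_X_self 1
@[simp] theorem branch_t_zero : branch hπ 0 (NodeAlg.t π) = PowerSeries.X := axisHom_X_self 0
@[simp] theorem branch_e_zero : branch hπ 0 (NodeAlg.e π) = 0 := axisHom_X_other (by decide)

theorem branch_algebraMap (j : Fin 2) (b : B) :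
    branch hπ j (algebraMap B (NodeAlg B π) b) = PowerSeries.C (residue B b) := by
  rw [algebraMap_eq, branch_mk, axisHom_C]

include hπ in
theorem axis_decomp {i j : Fin 2} (hij : i ≠ j) (f : MvPowerSeries (Fin 2) B) (hf : axisHom j f = 0) :
    f ∈ Ideal.span {MvPowerSeries.C π, MvPowerSeries.X i} := by
  classical
  have hdiv : ∀ n, ∃ c, π * c = MvPowerSeries.coeff (single j n) f := fun n => by
    have := congrArg (PowerSeries.coeff n) hf
    rw [coeff_axisHom, map_zero, residue_eq_zero_iff, hπ] at this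
    obtain ⟨c, hc⟩ := Ideal.mem_span_singleton'.1 this
    exact ⟨c, by rw [mul_comm, hc]⟩
  choose c hc using hdiv
  let g : MvPowerSeries (Fin 2) B := fun m => if m i = 0 then c (m j) else 0
  let h : MvPowerSeries (Fin 2) B := fun m => MvPowerSeries.coeff (m + single i 1) f
  refine Ideal.mem_span_pair.2 ⟨g, h, ?_⟩
  ext m
  rw [map_add, mul_comm g, MvPowerSeries.coeff_C_mul, mul_comm h, MvPowerSeries.X_def,
    MvPowerSeries.coeff_monomial_mul, one_mul, MvPowerSeries.coeff_apply g]
  have hm : m i = 0 → m = single j (m j) := fun h0 => by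
    ext l
    rcases (by omega : l = i ∨ l = j) with rfl | rfl
    · rw [Finsupp.single_eq_of_ne hij]; exact h0
    · rw [Finsupp.single_eq_same]
  by_cases h0 : m i = 0
  · rw [show g m = c (m j) from if_pos h0, hc, ← hm h0, if_neg, add_zero]
    intro hle
    have := hle i
    rw [Finsupp.single_eq_same] at this
    omega
  · rw [show g m = 0 from if_neg h0, mul_zero, zero_add, if_pos (Finsupp.single_le_iff.2 (Nat.one_le_iff_ne_zero.2 h0))]
    change MvPowerSeries.coeff (m - single i 1 + single i 1) f = _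
    rw [tsub_add_cancel_of_le (Finsupp.single_le_iff.2 (Nat.one_le_iff_ne_zero.2 h0))]

theorem t_dvd_iff {x : NodeAlg B π} : NodeAlg.t π ∣ x ↔ branch hπ 1 x = 0 := by
  refine ⟨fun ⟨y, hy⟩ => by rw [hy, map_mul, branch_t_one, zero_mul], fun h => ?_⟩
  obtain ⟨f, rfl⟩ := Ideal.Quotient.mk_surjective x
  obtain ⟨g, k, hgk⟩ := Ideal.mem_span_pair.1 (axis_decomp hπ (show (0 : Fin 2) ≠ 1 by decide) f h)
  refine ⟨Ideal.Quotient.mk _ g * NodeAlg.e π + Ideal.Quotient.mk _ k, ?_⟩
  rw [← hgk, map_add, map_mul, map_mul, ← algebraMap_eq, ← t_mul_e]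
  ring

theorem e_dvd_iff {x : NodeAlg B π} : NodeAlg.e π ∣ x ↔ branch hπ 0 x = 0 := by
  refine ⟨fun ⟨y, hy⟩ => by rw [hy, map_mul, branch_e_zero, zero_mul], fun h => ?_⟩
  obtain ⟨f, rfl⟩ := Ideal.Quotient.mk_surjective x
  obtain ⟨g, k, hgk⟩ := Ideal.mem_span_pair.1 (axis_decomp hπ (show (1 : Fin 2) ≠ 0 by decide) f h)
  refine ⟨Ideal.Quotient.mk _ g * NodeAlg.t π + Ideal.Quotient.mk _ k, ?_⟩
  rw [← hgk, map_add, map_mul, map_mul, ← algebraMap_eq, ← t_mul_e]
  ring

include hπ in
theorem nontrivial : Nontrivial (NodeAlg B π) := (branch hπ 0).domain_nontrivial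

include hπ in
theorem isLocalRing : IsLocalRing (NodeAlg B π) :=
  haveI := nontrivial hπ
  IsLocalRing.of_surjective' (Ideal.Quotient.mk _) Ideal.Quotient.mk_surjective

include hπ in
theorem isUnit_iff {x : NodeAlg B π} (j : Fin 2) :
    IsUnit x ↔ PowerSeries.constantCoeff (branch hπ j x) ≠ 0 := by
  refine ⟨fun h => ((h.map (branch hπ j)).map PowerSeries.constantCoeff).ne_zero, fun h => ?_⟩
  obtain ⟨f, rfl⟩ := Ideal.Quotient.mk_surjective x
  refine (MvPowerSeries.isUnit_iff_constantCoeff.2 ?_).map _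
  rw [branch_mk, ← PowerSeries.coeff_zero_eq_constantCoeff_apply, coeff_axisHom, Finsupp.single_zero,
    residue_ne_zero_iff_isUnit] at h
  exact h

include hπ in
theorem maximalIdeal_eq [IsLocalRing (NodeAlg B π)] :
    maximalIdeal (NodeAlg B π) = Ideal.span {NodeAlg.t π, NodeAlg.e π} := by
  refine le_antisymm (fun x hx => ?_) (Ideal.span_le.2 ?_)
  · rw [IsLocalRing.mem_maximalIdeal, mem_nonunits_iff, isUnit_iff hπ 1, not_not,
      ← PowerSeries.X_dvd_iff] at hx
    obtain ⟨q, hq⟩ := hx
    obtain ⟨y, rfl⟩ := branch_surjective hπ 1 q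
    obtain ⟨z, hz⟩ := (t_dvd_iff hπ).2 (show branch hπ 1 (x - NodeAlg.e π * y) = 0 by
      rw [map_sub, map_mul, branch_e_one, hq, sub_self])
    exact Ideal.mem_span_pair.2 ⟨z, y, by linear_combination -hz⟩
  · rintro y (rfl | rfl) <;>
    · rw [SetLike.mem_coe, IsLocalRing.mem_maximalIdeal, mem_nonunits_iff, isUnit_iff hπ 1]
      simp

omit [IsLocalRing B] in
theorem pi_mul_injective [IsDomain B] (h0 : π ≠ 0) {x : NodeAlg B π}
    (hx : algebraMap B (NodeAlg B π) π * x = 0) : x = 0 := by
  classical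
  obtain ⟨f, rfl⟩ := Ideal.Quotient.mk_surjective x
  rw [algebraMap_eq, ← map_mul, Ideal.Quotient.eq_zero_iff_mem] at hx
  obtain ⟨g, hg⟩ := Ideal.mem_span_singleton'.1 hx
  let mon : Fin 2 →₀ ℕ := single 0 1 + single 1 1
  have hX : (MvPowerSeries.X 0 * MvPowerSeries.X 1 : MvPowerSeries (Fin 2) B) = MvPowerSeries.monomial mon 1 := by
    rw [MvPowerSeries.X_def, MvPowerSeries.X_def, MvPowerSeries.monomial_mul_monomial, mul_one]
  have hdiv : ∀ m, ∃ c, π * c = MvPowerSeries.coeff m g := fun m => by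
    have h1 := congrArg (MvPowerSeries.coeff (mon + m)) hg
    rw [mul_sub, map_sub, mul_comm g, hX, MvPowerSeries.coeff_add_monomial_mul, one_mul, mul_comm g,
      MvPowerSeries.coeff_C_mul, MvPowerSeries.coeff_C_mul] at h1
    exact ⟨MvPowerSeries.coeff (mon + m) f + MvPowerSeries.coeff (mon + m) g, by linear_combination -h1⟩
  choose c hc using hdiv
  have hgc : g = MvPowerSeries.C π * (show MvPowerSeries (Fin 2) B from c) := by
    ext m; rw [MvPowerSeries.coeff_C_mul]; exact (hc m).symm
  refine Ideal.Quotient.eq_zero_iff_mem.2 (Ideal.mem_span_singleton'.2 ⟨(show MvPowerSeries (Fin 2) B from c), ?_⟩)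
  rw [hgc] at hg
  ext m
  have h1 := congrArg (MvPowerSeries.coeff m) hg
  rw [mul_assoc, MvPowerSeries.coeff_C_mul, MvPowerSeries.coeff_C_mul] at h1
  exact mul_left_cancel₀ h0 h1

include hπ in
theorem prime_t [IsDomain (NodeAlg B π)] (h : NodeAlg.t π ≠ 0) : Prime (NodeAlg.t π) := by
  refine ⟨h, fun hu => ?_, fun x y hxy => ?_⟩
  · simpa using (isUnit_iff hπ 1).1 hu
  · rw [t_dvd_iff hπ, map_mul, mul_eq_zero, ← t_dvd_iff hπ, ← t_dvd_iff hπ] at hxy
    exact hxy

include hπ in
theorem prime_e [IsDomain (NodeAlg B π)] (h : NodeAlg.e π ≠ 0) : Prime (NodeAlg.e π) := by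
  refine ⟨h, fun hu => ?_, fun x y hxy => ?_⟩
  · simpa using (isUnit_iff hπ 0).1 hu
  · rw [e_dvd_iff hπ, map_mul, mul_eq_zero, ← e_dvd_iff hπ, ← e_dvd_iff hπ] at hxy
    exact hxy

include hπ in
theorem not_t_dvd_e : ¬ NodeAlg.t π ∣ NodeAlg.e π := by
  intro h
  rw [t_dvd_iff hπ, branch_e_one] at h
  exact PowerSeries.X_ne_zero h

include hπ in
theorem not_e_dvd_t : ¬ NodeAlg.e π ∣ NodeAlg.t π := by
  intro h
  rw [e_dvd_iff hπ, branch_t_zero] at h
  exact PowerSeries.X_ne_zero h

include hπ in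
theorem isDomain [IsDomain B] [IsNoetherianRing B] (h0 : π ≠ 0) : IsDomain (NodeAlg B π) := by
  haveI := nontrivial hπ
  haveI := isLocalRing hπ
  haveI : IsNoetherianRing (NodeAlg B π) := isNoetherianRing_of_surjective _ _ (Ideal.Quotient.mk _) Ideal.Quotient.mk_surjective
  have hreg : ∀ x, NodeAlg.t π * x = 0 → x = 0 := fun x hx => by
    refine pi_mul_injective h0 ?_
    rw [← t_mul_e, mul_comm (NodeAlg.t π), mul_assoc, hx, mul_zero]
  have hne : Ideal.span {NodeAlg.t π} ≠ ⊤ := fun h => by
    simpa using (isUnit_iff hπ 1).1 (Ideal.span_singleton_eq_top.1 h)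
  classical
  have hfac : ∀ x : NodeAlg B π, x ≠ 0 → ∃ (n : ℕ) (y : NodeAlg B π), x = NodeAlg.t π ^ n * y ∧ ¬ NodeAlg.t π ∣ y := by
    intro x hx
    have hex : ∃ n, ¬ NodeAlg.t π ^ n ∣ x := by
      by_contra hall
      push Not at hall
      refine hx ?_
      rw [← Ideal.mem_bot, ← Ideal.iInf_pow_eq_bot_of_isLocalRing _ hne]
      simp only [Submodule.mem_iInf, Ideal.span_singleton_pow, Ideal.mem_span_singleton]
      exact hall
    have h1 : Nat.find hex ≠ 0 := fun h => Nat.find_spec hex (by simp [h])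
    obtain ⟨n, hn⟩ := Nat.exists_eq_succ_of_ne_zero h1
    obtain ⟨y, hy⟩ := not_not.1 (Nat.find_min hex (m := n) (by omega))
    refine ⟨n, y, hy, fun ⟨z, hz⟩ => Nat.find_spec hex ⟨z, ?_⟩⟩
    conv_lhs => rw [hy, hz, ← mul_assoc, ← pow_succ]
    rw [hn]
  have : NoZeroDivisors (NodeAlg B π) := ⟨fun {x y} hxy => by
    by_contra hc
    rw [not_or] at hc
    obtain ⟨n, x', rfl, hx'⟩ := hfac x hc.1
    obtain ⟨m, y', rfl, hy'⟩ := hfac y hc.2
    have hk : ∀ k z, NodeAlg.t π ^ k * z = 0 → z = 0 := fun k => by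
      induction k with
      | zero => intro z hz; simpa using hz
      | succ k ih => intro z hz; exact hreg z (ih _ (by rw [← mul_assoc, ← pow_succ, hz]))
    have : x' * y' = 0 := hk (n + m) _ (by rw [pow_add, ← hxy]; ring)
    have h2 := congrArg (branch hπ 1) this
    rw [map_mul, map_zero, mul_eq_zero, ← t_dvd_iff hπ, ← t_dvd_iff hπ] at h2
    exact h2.elim hx' hy'⟩
  exact NoZeroDivisors.to_isDomain _

end Groth.Agent.ArLefLib.Node
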