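import Groth.Agent.ArLefLib.Fix

/-! # Lengths in power series over a discrete valuation ring -/

namespace Groth.Agent.ArLefLib

open IsLocalRing

universe u

variable {B : Type u} [CommRing B] [IsDomain B] [IsDiscreteValuationRing B] {π : B}

theorem ker_map_residue (hπ : Irreducible π) (x : PowerSeries B) :
    PowerSeries.map (residue B) x = 0 ↔ x ∈ Ideal.span {PowerSeries.C π} := by
  rw [Ideal.mem_span_singleton']
  constructor
  · intro hx
    have hdiv : ∀ n, ∃ c, c * π = PowerSeries.coeff n x := fun n => by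
      have h := congrArg (PowerSeries.coeff n) hx
      rw [PowerSeries.coeff_map, map_zero, residue_eq_zero_iff, hπ.maximalIdeal_eq] at h
      exact Ideal.mem_span_singleton'.1 h
    choose c hc using hdiv
    exact ⟨PowerSeries.mk c, by ext n; rw [PowerSeries.coeff_mul_C, PowerSeries.coeff_mk, hc]⟩
  · rintro ⟨c, rfl⟩
    rw [map_mul, PowerSeries.map_C, (residue_eq_zero_iff π).2 (hπ.maximalIdeal_eq ▸ Ideal.subset_span rfl),
      map_zero, mul_zero]

theorem length_quot_f_pow (hπ : Irreducible π) (f : PowerSeries B)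
    (hf0 : PowerSeries.map (residue B) f ≠ 0) (m : ℕ) :
    Module.length (PowerSeries B) (PowerSeries B ⧸ (Ideal.span {f} ⊔ Ideal.span {PowerSeries.C π ^ m})) =
      (m : ℕ∞) * Module.length (PowerSeries (ResidueField B)) (PowerSeries (ResidueField B) ⧸
        Ideal.span {PowerSeries.map (residue B) f}) := by
  set F := PowerSeries.map (residue B)
  have hreg : ∀ y, PowerSeries.C π * y ∈ Ideal.span {f} → y ∈ Ideal.span {f} := by
    intro y hy
    obtain ⟨c, hc⟩ := Ideal.mem_span_singleton'.1 hy
    have h := congrArg F hc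
    rw [map_mul, map_mul, (ker_map_residue hπ _).2 (Ideal.subset_span rfl), zero_mul, mul_eq_zero] at h
    obtain ⟨d, rfl⟩ := Ideal.mem_span_singleton'.1 ((ker_map_residue hπ c).1 (h.resolve_right hf0))
    refine Ideal.mem_span_singleton'.2 ⟨d, mul_left_cancel₀ ((map_ne_zero_iff _ PowerSeries.C_injective).2 hπ.ne_zero) ?_⟩
    rw [← hc]; ring
  rw [length_quot_pow hreg]
  congr 1
  refine length_quot_of_surjective F (PowerSeries.map_surjective _ residue_surjective) _ _ fun x => ?_
  constructor
  · intro hx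
    obtain ⟨y, hy, z, hz, rfl⟩ := Submodule.mem_sup.1 hx
    obtain ⟨c, rfl⟩ := Ideal.mem_span_singleton'.1 hy
    rw [map_add, (ker_map_residue hπ z).2 hz, add_zero, map_mul]
    exact Ideal.mem_span_singleton'.2 ⟨F c, rfl⟩
  · intro hx
    obtain ⟨c, hc⟩ := Ideal.mem_span_singleton'.1 hx
    obtain ⟨c, rfl⟩ := PowerSeries.map_surjective _ residue_surjective c
    refine Submodule.mem_sup.2 ⟨c * f, Ideal.mem_span_singleton'.2 ⟨c, rfl⟩, x - c * f,
      (ker_map_residue hπ _).1 ?_, add_sub_cancel _ _⟩
    rw [map_sub, map_mul, hc, sub_self]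

end Groth.Agent.ArLefLib
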