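import Groth.Agent.ArLefLib.Fix

/-! # Lengths at a node stabilised by an automorphism -/

namespace Groth.Agent.ArLefLib.Node

open ArLef IsLocalRing

universe u

theorem mem_span3 {A : Type*} [CommRing A] {a b c x : A} :
    x ∈ Ideal.span {a, b, c} ↔ ∃ u v w, u * a + v * b + w * c = x := by
  constructor
  · intro h
    obtain ⟨u, y, hy, rfl⟩ := Ideal.mem_span_insert.1 h
    obtain ⟨v, w, rfl⟩ := Ideal.mem_span_pair.1 hy
    exact ⟨u, v, w, by ring⟩
  · rintro ⟨u, v, w, rfl⟩
    exact add_mem (add_mem (Ideal.mul_mem_left _ _ (Ideal.subset_span (by simp)))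
      (Ideal.mul_mem_left _ _ (Ideal.subset_span (by simp)))) (Ideal.mul_mem_left _ _ (Ideal.subset_span (by simp)))

theorem regular_mod {A : Type*} [CommRing A] [IsDomain A] {p a : A} (hp : Prime p) (ha : ¬ p ∣ a) :
    ∀ y, p * y ∈ Ideal.span {a} → y ∈ Ideal.span {a} := by
  intro y hy
  obtain ⟨c, hc⟩ := Ideal.mem_span_singleton'.1 hy
  obtain ⟨d, rfl⟩ := (hp.dvd_or_dvd ⟨y, hc⟩).resolve_right ha
  exact Ideal.mem_span_singleton'.2 ⟨d, mul_left_cancel₀ hp.ne_zero (by rw [← hc]; ring)⟩

theorem regular_pow_mod {A : Type*} [CommRing A] {p : A} {J : Ideal A}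
    (h : ∀ y, p * y ∈ J → y ∈ J) : ∀ (k : ℕ) (y : A), p ^ k * y ∈ J → y ∈ J
  | 0, y, hy => by simpa using hy
  | k + 1, y, hy => h y (regular_pow_mod h k _ (by rwa [← mul_assoc, ← pow_succ]))

theorem pow_dvd_of_dvd_mul {A : Type*} [CommRing A] [IsDomain A] {p b g : A} (hp : Prime p)
    {k : ℕ} (hb : k = 0 ∨ ¬ p ∣ b) (h : p ^ k ∣ b * g) : p ^ k ∣ g := by
  rcases hb with rfl | hb
  · simp
  · exact hp.pow_dvd_of_dvd_mul_left k hb h

variable {B : Type u} [CommRing B] [IsDomain B] [IsLocalRing B] [IsNoetherianRing B] {π : B}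
  (hπ : maximalIdeal B = Ideal.span {π}) (h0 : π ≠ 0)

include hπ in
omit [IsDomain B] [IsNoetherianRing B] in
theorem t_ne_zero : NodeAlg.t π ≠ 0 := fun h => (PowerSeries.X_ne_zero (R := ResidueField B))
  (by simpa [h] using (branch_t_zero hπ).symm)

include hπ in
omit [IsDomain B] [IsNoetherianRing B] in
theorem e_ne_zero : NodeAlg.e π ≠ 0 := fun h => (PowerSeries.X_ne_zero (R := ResidueField B))
  (by simpa [h] using (branch_e_one hπ).symm)

include hπ h0 in
theorem length_stab (β γ a b : NodeAlg B π) (hβ : IsUnit β) (m n : ℕ) (hm : 1 ≤ m) (hn : 1 ≤ n)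
    (rel : β * a + b = γ * (NodeAlg.t π ^ (m - 1) * NodeAlg.e π ^ (n - 1)))
    (htb : ¬ NodeAlg.t π ∣ b) (hea : ¬ NodeAlg.e π ∣ a) :
    Module.length (NodeAlg B π) (NodeAlg B π ⧸
        Ideal.span {NodeAlg.t π ^ m * NodeAlg.e π ^ n, a * NodeAlg.t π, b * NodeAlg.e π}) =
      1 + (m : ℕ∞) * Module.length (NodeAlg B π) (NodeAlg B π ⧸ Ideal.span {NodeAlg.t π, b}) +
        (n : ℕ∞) * Module.length (NodeAlg B π) (NodeAlg B π ⧸ Ideal.span {NodeAlg.e π, a}) := by
  haveI := isDomain hπ h0
  haveI := isLocalRing hπ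
  set t := NodeAlg.t π
  set e := NodeAlg.e π
  have hpt : Prime t := prime_t hπ (t_ne_zero hπ)
  have hpe : Prime e := prime_e hπ (e_ne_zero hπ)
  have hta : m - 1 = 0 ∨ ¬ t ∣ a := by
    rcases Nat.eq_zero_or_pos (m - 1) with h | h
    · exact Or.inl h
    · refine Or.inr fun hd => htb ?_
      rw [show b = γ * (t ^ (m - 1) * e ^ (n - 1)) - β * a by linear_combination rel]
      exact dvd_sub (dvd_mul_of_dvd_right (dvd_mul_of_dvd_left (dvd_pow_self t h.ne') _) _)
        (dvd_mul_of_dvd_right hd _)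
  have heb : n - 1 = 0 ∨ ¬ e ∣ b := by
    rcases Nat.eq_zero_or_pos (n - 1) with h | h
    · exact Or.inl h
    · refine Or.inr fun hd => hea ?_
      obtain ⟨v, rfl⟩ := hβ
      refine (Units.dvd_mul_left (u := v)).1 ?_
      rw [show (v : NodeAlg B π) * a = γ * (t ^ (m - 1) * e ^ (n - 1)) - b by linear_combination rel]
      exact dvd_sub (dvd_mul_of_dvd_right (dvd_mul_of_dvd_right (dvd_pow_self e h.ne') _) _) hd
  set c := t ^ (m - 1) * e ^ n with hc
  have hm' : t ^ m = t * t ^ (m - 1) := by rw [← pow_succ']; congr 1; omega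
  have hn' : e ^ n = e ^ (n - 1) * e := by rw [← pow_succ]; congr 1; omega
  have hbe : b * e = γ * c - β * (a * e) := by rw [hc, hn']; linear_combination e * rel
  -- `K = (a, c)`
  have hK : Module.length (NodeAlg B π) (NodeAlg B π ⧸ Ideal.span {a, c}) =
      (n : ℕ∞) * Module.length (NodeAlg B π) (NodeAlg B π ⧸ Ideal.span {e, a}) +
      ((m - 1 : ℕ) : ℕ∞) * Module.length (NodeAlg B π) (NodeAlg B π ⧸ Ideal.span {t, b}) := by
    have hreg : ∀ y, t ^ (m - 1) * y ∈ Ideal.span {a} → y ∈ Ideal.span {a} := by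
      rcases hta with h | h
      · intro y hy; rwa [h, pow_zero, one_mul] at hy
      · exact regular_pow_mod (regular_mod hpt h) _
    rw [length_quot_eq_add (J := Ideal.span {a} ⊔ Ideal.span {t ^ (m - 1)})
      (K := Ideal.span {a} ⊔ Ideal.span {e ^ n}) (t ^ (m - 1)) ?_ ?_,
      length_quot_pow (regular_mod hpe hea)]
    · congr 1
      · rw [← Ideal.span_union, Set.singleton_union, Set.pair_comm]
      · rcases Nat.eq_zero_or_pos (m - 1) with h | h
        · rw [h, pow_zero, Ideal.span_singleton_one, sup_top_eq, length_quot_top, Nat.cast_zero, zero_mul]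
        · rw [length_quot_pow (regular_mod hpt (hta.resolve_left h.ne'))]
          suffices he : Ideal.span {a} ⊔ Ideal.span {t} = Ideal.span {t, b} by rw [he]
          rw [← Ideal.span_union, Set.singleton_union]
          refine le_antisymm (Ideal.span_le.2 (Set.pair_subset ?_ ?_)) (Ideal.span_le.2 (Set.pair_subset ?_ ?_))
          · obtain ⟨v, rfl⟩ := hβ
            refine Ideal.mem_span_pair.2 ⟨↑v⁻¹ * γ * (t ^ (m - 1 - 1) * e ^ (n - 1)), -↑v⁻¹, ?_⟩
            have : t ^ (m - 1) = t * t ^ (m - 1 - 1) := by rw [← pow_succ']; congr 1; omega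
            rw [this] at rel
            linear_combination -(↑v⁻¹ : NodeAlg B π) * rel + a * v.inv_mul
          · exact Ideal.subset_span (by simp)
          · exact Ideal.subset_span (by simp)
          · have : t ^ (m - 1) = t * t ^ (m - 1 - 1) := by rw [← pow_succ']; congr 1; omega
            rw [this] at rel
            exact Ideal.mem_span_pair.2 ⟨-β, γ * (t ^ (m - 1 - 1) * e ^ (n - 1)), by linear_combination -rel⟩
    · rw [← Ideal.span_union, ← Ideal.span_union, Set.singleton_union]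
      refine le_antisymm (Ideal.span_le.2 (Set.pair_subset (Ideal.subset_span (by simp)) (Ideal.subset_span (by simp))))
        (Ideal.span_le.2 (Set.union_subset (Set.pair_subset (Ideal.subset_span (by simp)) ?_)
          (Set.singleton_subset_iff.2 (Ideal.subset_span (by simp)))))
      exact Ideal.mem_span_pair.2 ⟨0, e ^ n, by rw [hc]; ring⟩
    · intro y
      rw [← Ideal.span_union, Set.singleton_union, Ideal.mem_span_pair, Ideal.mem_span_pair]
      constructor
      · rintro ⟨p, q, rfl⟩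
        exact ⟨p * t ^ (m - 1), q, by rw [hc]; ring⟩
      · rintro ⟨p, q, h⟩
        obtain ⟨r, hr⟩ := Ideal.mem_span_singleton'.1 (hreg (y - q * e ^ n)
          (Ideal.mem_span_singleton'.2 ⟨p, by rw [hc] at h; linear_combination h⟩))
        exact ⟨r, q, by linear_combination hr⟩
  set I := Ideal.span {t ^ m * e ^ n, a * t, b * e}
  rw [length_quot_eq_add (I := I) (J := I ⊔ Ideal.span {c}) (K := Ideal.span {t, b}) c rfl ?hc,
    length_quot_eq_add (I := I ⊔ Ideal.span {c}) (J := Ideal.span {a, c}) (K := Ideal.span {t, e}) a ?hJ ?ha,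
    hK, ← maximalIdeal_eq hπ, length_quot_maximal (maximalIdeal (NodeAlg B π))]
  case hc =>
    intro x
    rw [Ideal.mem_span_pair, mem_span3]
    constructor
    · rintro ⟨p, q, rfl⟩
      exact ⟨p, 0, q * (t ^ (m - 1) * e ^ (n - 1)), by rw [hc, hm', hn']; ring⟩
    · rintro ⟨u, v, w, h⟩
      rw [hc, hm', hn'] at h
      obtain ⟨v', rfl⟩ : e ∣ v := by
        refine (hpe.dvd_or_dvd (show e ∣ v * (a * t) from
          ⟨x * (t ^ (m - 1) * e ^ (n - 1)) - u * (t * t ^ (m - 1) * e ^ (n - 1)) - w * b, by linear_combination h⟩)).resolve_right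
          fun h' => (hpe.dvd_or_dvd h').elim hea (not_e_dvd_t hπ)
      obtain ⟨β', hβ'⟩ := hβ.exists_left_inv
      have key : (x - u * t - v' * t * β' * γ) * (t ^ (m - 1) * e ^ (n - 1)) = b * (w - v' * t * β') := by
        apply mul_left_cancel₀ hpe.ne_zero
        linear_combination -h - (e * v' * t * a) * hβ' + (e * v' * t * β') * rel
      have d1 : t ^ (m - 1) ∣ w - v' * t * β' := pow_dvd_of_dvd_mul hpt
        ((em (m - 1 = 0)).imp_right fun _ => htb) (key ▸ dvd_mul_of_dvd_right (dvd_mul_right _ _) _)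
      obtain ⟨g₁, hg₁⟩ := d1
      have key2 : (x - u * t - v' * t * β' * γ) * e ^ (n - 1) = b * g₁ := by
        apply mul_left_cancel₀ (pow_ne_zero (m - 1) hpt.ne_zero)
        linear_combination key + b * hg₁
      obtain ⟨g₂, hg₂⟩ := pow_dvd_of_dvd_mul (b := b) (g := g₁) hpe heb (key2 ▸ dvd_mul_left _ _)
      refine ⟨u + v' * β' * γ, g₂, ?_⟩
      apply mul_left_cancel₀ (pow_ne_zero (n - 1) hpe.ne_zero)
      linear_combination -key2 - b * hg₂
  case hJ =>
    refine le_antisymm (Ideal.span_le.2 (Set.pair_subset ?_ ?_))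
      (sup_le (sup_le (Ideal.span_le.2 (Set.insert_subset ?_ (Set.pair_subset ?_ ?_))) ?_) ?_)
    · exact Submodule.mem_sup_right (Ideal.subset_span rfl)
    · exact Submodule.mem_sup_left (Submodule.mem_sup_right (Ideal.subset_span rfl))
    · exact Ideal.mem_span_pair.2 ⟨0, t, by rw [hc, hm']; ring⟩
    · exact Ideal.mem_span_pair.2 ⟨t, 0, by ring⟩
    · exact Ideal.mem_span_pair.2 ⟨-β * e, γ, by linear_combination -hbe⟩
    · exact Ideal.span_mono (by simp)
    · exact Ideal.span_mono (by simp)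
  case ha =>
    intro x
    constructor
    · intro hx
      obtain ⟨p, q, rfl⟩ := Ideal.mem_span_pair.1 hx
      obtain ⟨β', hβ'⟩ := hβ.exists_left_inv
      rw [show (p * t + q * e) * a = p * (a * t) + q * β' * γ * c - q * β' * (b * e) by
        linear_combination (q * β') * hbe - q * a * e * hβ']
      refine sub_mem (add_mem ?_ ?_) ?_
      · exact Submodule.mem_sup_left (Ideal.mul_mem_left _ _ (Ideal.subset_span (by simp)))
      · exact Submodule.mem_sup_right (Ideal.mul_mem_left _ _ (Ideal.subset_span rfl))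
      · exact Submodule.mem_sup_left (Ideal.mul_mem_left _ _ (Ideal.subset_span (by simp)))
    · intro hx
      rw [← maximalIdeal_eq hπ, mem_maximalIdeal, mem_nonunits_iff]
      intro hu
      obtain ⟨y, hy, z, hz, hyz⟩ := Submodule.mem_sup.1 hx
      obtain ⟨u, v, w, rfl⟩ := mem_span3.1 hy
      obtain ⟨r, rfl⟩ := Ideal.mem_span_singleton'.1 hz
      have hunit : IsUnit (x - v * t + w * β * e) := by
        by_contra hcn
        refine (mem_maximalIdeal x).1 ?_ hu
        rw [show x = (x - v * t + w * β * e) + v * t + -(w * β) * e by ring]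
        exact add_mem (add_mem ((mem_maximalIdeal _).2 hcn)
          (Ideal.mul_mem_left _ _ (by rw [maximalIdeal_eq hπ]; exact Ideal.subset_span (by simp [t]))))
          (Ideal.mul_mem_left _ _ (by rw [maximalIdeal_eq hπ]; exact Ideal.subset_span (by simp [e])))
      have heq : (x - v * t + w * β * e) * a = (u * t + r + w * γ) * c := by
        rw [hm'] at hyz
        linear_combination -hyz + w * hbe + (0 : NodeAlg B π)
      refine hea ((IsUnit.dvd_mul_left hunit).1 ?_)
      rw [heq, hc, hn']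
      exact dvd_mul_of_dvd_right (dvd_mul_of_dvd_right (dvd_mul_left e _) _) _
  have : (m : ℕ∞) = 1 + ((m - 1 : ℕ) : ℕ∞) := by
    rw [← Nat.cast_one, ← Nat.cast_add]; congr 1; omega
  rw [this, add_mul, one_mul]
  ring

end Groth.Agent.ArLefLib.Node
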